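import Groth.Agent.L24.CoarseQuot.Data
import Groth.Agent.L24.St.SmoothLocal
import Groth.Agent.L24.InertiaGen.Main
import Groth.Agent.L24.Alg.SourceFppf
import Mathlib.AlgebraicGeometry.Morphisms.SchemeTheoreticallyDominant
import Mathlib.RingTheory.Adjoin.Tower

/-!
# The quotient is locally of finite type
-/

set_option autoImplicit false
set_option linter.style.haveILetI false
set_option backward.isDefEq.respectTransparency false
set_option backward.isDefEq.respectTransparency.types false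

universe u

open CategoryTheory CategoryTheory.Limits AlgebraicGeometry Opposite AlgSt

noncomputable section

namespace Groth.L24.CoarseQuot

open Groth.L24.Multi Groth.L24.St

variable {S : Scheme.{u}} {𝒳 : AlgSt.Cat S}

/-- Two charts have a common refinement inheriting the properties of both. -/
theorem exists_square_two {Q₁ Q₂ : MorphismProperty Scheme.{u}} (h𝒳 : FibCat.IsFibGrpd 𝒳.p) {U V : Over S}
    {x : FibCat.overCat U ⥤ᵇ 𝒳} {y : FibCat.overCat V ⥤ᵇ 𝒳} (hx : RepByAlgSpWith (AlgSp.LocP Q₁) x)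
    (hy : RepByAlgSpWith (AlgSp.LocP Q₂) y) :
    ∃ (W : Over S) (ψ : W ⟶ U) (ρ : W ⟶ V), Q₂ ψ.left ∧ Q₁ ρ.left ∧
      ∀ t v, Points.ofChart x t = Points.ofChart y v → ∃ w, ψ.left w = t ∧ ρ.left w = v := by
  obtain ⟨F, e, he, hQ⟩ := hy U x
  have hQ' : AlgSp.LocP Q₁ (spMapOfOver (BasedFunctor.comp (BasedFunctor.comp e fpSwap) (FibCat.fpFst y x))) :=
    Wit.prop_of_equiv (fun _ _ _ _ i _ a => locP_precomp_iso _ i a) (hx V y) F.property _
      (isEquivOver_comp he fpSwap_isEquivOver)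
  obtain ⟨W, a, haE, haS⟩ := F.property.atlas
  let E : FibCat.overCat W ⥤ᵇ FibCat.fp x y :=
    BasedFunctor.comp (ofOverCat W) (BasedFunctor.comp (ofSpMap a) e)
  obtain ⟨ψ, ⟨iψ⟩, hψ⟩ := exists_overMap_iso (BasedFunctor.comp E (FibCat.fpFst x y))
  obtain ⟨ρ, ⟨iρ⟩, hρ⟩ := exists_overMap_iso (BasedFunctor.comp E (FibCat.fpSnd x y))
  refine ⟨W, ψ, ρ, ?_, ?_, ?_⟩
  · refine hQ a (𝟙 _) ψ haE (AlgSp.repWith_id _ U) ?_
    rw [Category.comp_id, ← spMapOfOver_ofSpMap_comp, ← hψ]
    rfl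
  · refine hQ' a (𝟙 _) ρ haE (AlgSp.repWith_id _ V) ?_
    rw [Category.comp_id, ← spMapOfOver_ofSpMap_comp, ← hρ]
    rfl
  · intro t v htv
    obtain ⟨w, hw1, hw2⟩ := exists_points_fp (overCat_isFibGrpd V) h𝒳 (overCat_isFibGrpd U) y x
      (ptOver t) (ptOver v) htv
    obtain ⟨z, rfl⟩ := (bijective_map_of_isEquivOver he).surjective w
    obtain ⟨q, rfl⟩ := exists_toFPt z
    obtain ⟨s, hs⟩ := Groth.L23.surjective_ofPt haS (AlgSp.Points.mk q)
    have hz : Points.map (spChart a) (ptOver s) = Points.mk (toFPt q) :=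
      Points.sound (rel_toFPt (AlgSp.Points.mk_eq_mk_iff.1 hs))
    refine ⟨s, (overPtEquiv U).symm.injective ?_, (overPtEquiv V).symm.injective ?_⟩
    · show ptOver (ψ.left s) = ptOver t
      rw [← map_overMap_ptOver, ← map_congr iψ, ← hw1, ← hz]
      rfl
    · show ptOver (ρ.left s) = ptOver v
      rw [← map_overMap_ptOver, ← map_congr iρ, ← hw2, ← hz]
      rfl

/-- A finite chart of a stack locally of finite type is locally of finite type over the base. -/
theorem lft_chart (hg : FibCat.IsFibGrpd 𝒳.p) {U : Over S} {x : FibCat.overCat U ⥤ᵇ 𝒳}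
    (hfin : RepByAlgSpWith AlgSp.IsFiniteMor x)
    (h : AlgSt.LocQ (AlgSp.LocP @LocallyOfFiniteType) (FibCat.toSelf 𝒳)) : LocallyOfFiniteType U.hom := by
  obtain ⟨U₀, V, x₀, y, k, -, hx₀, hx₀s, hy, hk⟩ := h
  have := Groth.L24.Multi.smooth_hom_of_toSelf_chart y hy
  have : LocallyOfFiniteType k.left := prop_of_locP_map hk
  have hU : LocallyOfFiniteType U₀.hom := by rw [← Over.w k]; infer_instance
  have hlft : RepByAlgSpWith (AlgSp.LocP @LocallyOfFiniteType) x := repWith_mono (fun F V _ a ha =>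
    Groth.L23.locP_of_repWith Groth.L23.etLocal_lft (Groth.L23.repWith_mono
      (Q := @LocallyOfFiniteType) (fun φ (hφ : IsFinite φ) => have := hφ; inferInstance) (Groth.L23.isFiniteMor_iff.1 ha))) hfin
  obtain ⟨W, ψ, ρ, hψ, hρ, hcov⟩ := exists_square_two hg hx₀ hlft
  have : LocallyOfFiniteType ψ.left := hψ
  have : Smooth ρ.left := hρ
  have : Surjective ρ.left := ⟨fun w => by
    obtain ⟨q, hq⟩ := isSurjective_of_repWith (overCat_isFibGrpd U₀) hg hx₀s (Points.ofChart x w)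
    obtain ⟨t, rfl⟩ : ∃ t, ptOver t = q := ⟨_, ptOver_overPt q⟩
    obtain ⟨v, -, hv⟩ := hcov t w hq
    exact ⟨v, hv⟩⟩
  exact Groth.L24.Alg.locallyOfFiniteType_of_fppf_comp ρ.left U.hom (by
    rw [Over.w ρ, ← Over.w ψ]
    infer_instance)

/-- Artin-Tate. -/
theorem lft_of_finite_comp {X Y : Scheme.{u}} (p : X ⟶ Y) [IsFinite p] [IsSchemeTheoreticallyDominant p]
    (g : Y ⟶ S) [IsLocallyNoetherian S] [LocallyOfFiniteType (p ≫ g)] : LocallyOfFiniteType g := by
  refine ⟨fun {U} hU {V} hV e => ?_⟩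
  have : IsNoetherianRing Γ(S, U) := IsLocallyNoetherian.component_noetherian ⟨U, hU⟩
  have hX : IsAffineOpen (p ⁻¹ᵁ V) := hV.preimage p
  have h1 : ((p ≫ g).appLE U (p ⁻¹ᵁ V) (p.preimage_mono e)).hom.FiniteType := (p ≫ g).finiteType_appLE hU hX _
  have h2 : (p.app V).hom.Finite := p.finite_app V hV
  have h3 : Function.Injective (p.app V).hom := p.app_injective V
  have heq : (p ≫ g).appLE U (p ⁻¹ᵁ V) (p.preimage_mono e) = g.appLE U V e ≫ p.app V := by
    rw [p.app_eq_appLE, Scheme.Hom.appLE_comp_appLE]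
  rw [heq] at h1
  letI := (g.appLE U V e).hom.toAlgebra
  letI := (p.app V).hom.toAlgebra
  letI : Algebra Γ(S, U) Γ(X, p ⁻¹ᵁ V) := ((p.app V).hom.comp (g.appLE U V e).hom).toAlgebra
  haveI : IsScalarTower Γ(S, U) Γ(Y, V) Γ(X, p ⁻¹ᵁ V) := IsScalarTower.of_algebraMap_eq fun _ => rfl
  haveI : Algebra.FiniteType Γ(S, U) Γ(X, p ⁻¹ᵁ V) := h1
  haveI : Module.Finite Γ(Y, V) Γ(X, p ⁻¹ᵁ V) := h2
  exact (⟨fg_of_fg_of_fg Γ(S, U) Γ(Y, V) Γ(X, p ⁻¹ᵁ V) Algebra.FiniteType.out Module.Finite.fg_top h3⟩ :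
    Algebra.FiniteType Γ(S, U) Γ(Y, V))

theorem Data.lft_space {U : Over S} {x : FibCat.overCat U ⥤ᵇ 𝒳} {hg : FibCat.IsFibGrpd 𝒳.p}
    {P : ChartGrpd.Rep x hg} (D : Data P) [IsLocallyNoetherian S] [LocallyOfFiniteType U.hom] :
    LocallyOfFiniteType D.Y.hom := by
  choose K hK hmem using D.pieces
  let 𝒱 : D.Y.left.OpenCover := D.Y.left.openCoverOfIsOpenCover (fun y => (K y).ι.opensRange)
    (TopologicalSpace.IsOpenCover.mk (top_le_iff.1 fun z _ => TopologicalSpace.Opens.mem_iSup.2 ⟨z, hmem z⟩))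
  refine (IsZariskiLocalAtSource.iff_of_openCover (P := @LocallyOfFiniteType) 𝒱).2 fun y => ?_
  show LocallyOfFiniteType ((K y).ι.opensRange.ι ≫ D.Y.hom)
  have key : LocallyOfFiniteType ((K y).ι ≫ D.Y.hom) := by
    let T := (K y).G.toQuot
    have hint : IsIntegralHom T := Groth.Agent.L24.Quot.closed_toQuot (K y).G
    have hj : IsOpenImmersion (K y).j := by
      have := hK y
      exact MorphismProperty.of_isPullback (P := @IsOpenImmersion) (K y).sq ‹_›
    have : LocallyOfFiniteType (T ≫ (K y).ι ≫ D.Y.hom) := by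
      rw [(K y).toQuot_base]
      infer_instance
    have : LocallyOfFiniteType T := locallyOfFiniteType_of_comp T ((K y).ι ≫ D.Y.hom)
    have : IsFinite T := (IsFinite.iff_isIntegralHom_and_locallyOfFiniteType T).2 ⟨hint, this⟩
    have : IsSchemeTheoreticallyDominant T := by
      rw [isSchemeTheoreticallyDominant_iff, ← Scheme.Hom.ker_comp_of_isIso (K y).G.U.isoSpec.inv T,
        (K y).hU_toQuot, Scheme.ker_of_isAffine]
      have hi : Function.Injective (algebraMap (K y).G.invariants Γ((K y).G.U, ⊤)) := Subtype.val_injective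
      have : RingHom.ker (Spec.map (CommRingCat.ofHom (algebraMap (K y).G.invariants Γ((K y).G.U, ⊤)))).appTop.hom = ⊥ := by
        rw [← RingHom.injective_iff_ker_eq_bot]
        have hn := Scheme.ΓSpecIso_naturality (CommRingCat.ofHom (algebraMap (K y).G.invariants Γ((K y).G.U, ⊤)))
        intro a b hab
        apply (Scheme.ΓSpecIso (CommRingCat.of (K y).G.invariants)).commRingCatIsoToRingEquiv.injective
        apply hi
        have ha := congrArg (fun m => m a) hn
        have hb := congrArg (fun m => m b) hn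
        exact ha.symm.trans ((congrArg (Scheme.ΓSpecIso (CommRingCat.of Γ((K y).G.U, ⊤))).hom hab).trans hb)
      rw [this]
      exact Scheme.IdealSheafData.ext_of_isAffine (by simp)
    exact lft_of_finite_comp T _
  rw [← Scheme.Hom.isoOpensRange_inv_comp (K y).ι, Category.assoc]
  infer_instance

end Groth.L24.CoarseQuot
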