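import Groth.Agent.L24.Moduli.WNAModuli
import Groth.Agent.L09.Gerbe.Coarse

/-!
# Bijectivity on geometric points is stable under base change
-/

set_option autoImplicit false
set_option backward.isDefEq.respectTransparency false
set_option backward.isDefEq.respectTransparency.types false

universe u

open CategoryTheory CategoryTheory.Limits AlgebraicGeometry Opposite

noncomputable section

namespace Groth.L24.CoarseQuot

open Groth.L24.St AlgSt

variable {S : Scheme.{u}} {𝒳 : AlgSt.Cat S}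

/-- Bijectivity on geometric points is stable under base change. -/
theorem geomPtBij_fpFst (hg : FibCat.IsFibGrpd 𝒳.p) {M M' : AlgSp.Sp S} {π : 𝒳 ⥤ᵇ ofSp M} (h : GeomPtBij π)
    (g : M' ⟶ M) : GeomPtBij (FibCat.fpFst (ofSpMap g) π) := by
  intro Ω _ _ t
  obtain ⟨h₁, h₂⟩ := h Ω t
  refine ⟨fun m => ?_, ?_⟩
  · obtain ⟨x, hx⟩ := h₁ (g.hom.app (op (Over.mk t)) m)
    have e : (ofSpMap g).obj ⟨Over.mk t, m⟩ = π.obj x.1 :=
      WNAModuli.elt_ext ((π.w_obj x.1).trans x.2) hx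
    refine ⟨⟨fpObj ⟨Over.mk t, m⟩ x.1 (eqToIso e) (WNAModuli.overId_eqToHom e), rfl⟩, ?_⟩
    show M'.obj.map (𝟙 (op (Over.mk t))) m = m
    rw [Functor.map_id_apply]
  · rintro ⟨A, hA⟩ ⟨B, hB⟩ hAB
    have key : ∀ (C : (FibCat.fp (ofSpMap g) π).obj) (hC : (FibCat.fp (ofSpMap g) π).p.obj C = Over.mk t),
        fibSec π ⟨C.obj.snd, ((FibCat.fpSnd (ofSpMap g) π).w_obj C).trans hC⟩ =
          g.hom.app (op (Over.mk t)) (fibSec (FibCat.fpFst (ofSpMap g) π) ⟨C, hC⟩) := by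
      intro C hC
      have hiso : (ofSp M).p.IsHomLift (𝟙 ((FibCat.fp (ofSpMap g) π).p.obj C)) C.obj.iso.hom := C.property
      have h3 : (ofSp M).p.IsHomLift (𝟙 (Over.mk t)) C.obj.iso.hom := by
        rw [← hC]
        exact hiso
      refine ((L09.Gerbe.sec_eq C.obj.iso.hom hC
        (((π.w_obj C.obj.snd).trans ((FibCat.fpSnd (ofSpMap g) π).w_obj C)).trans hC) h3).symm).trans ?_
      exact (NatTrans.naturality_apply g.hom (eqToHom hC.symm).op C.obj.fst.sec).symm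
    obtain ⟨i⟩ := h₂ ⟨A.obj.snd, ((FibCat.fpSnd (ofSpMap g) π).w_obj A).trans hA⟩
      ⟨B.obj.snd, ((FibCat.fpSnd (ofSpMap g) π).w_obj B).trans hB⟩ (by rw [key A hA, key B hB, hAB])
    have hl : 𝒳.p.IsHomLift (𝟙 (Over.mk t)) i.hom.1 := i.hom.2
    have hbA : A.obj.fst.base = Over.mk t := hA
    have hbB : B.obj.fst.base = Over.mk t := hB
    have he : A.obj.fst = B.obj.fst := by
      refine WNAModuli.elt_ext (hbB.trans hbA.symm) ?_
      have h4 : M'.obj.map (eqToHom hbA.symm).op A.obj.fst.sec = M'.obj.map (eqToHom hbB.symm).op B.obj.fst.sec := hAB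
      have h5 := congrArg (M'.obj.map (eqToHom hbA).op) h4
      rw [← Functor.map_comp_apply, ← Functor.map_comp_apply, ← op_comp, ← op_comp, eqToHom_trans,
        eqToHom_trans, eqToHom_refl, op_id, Functor.map_id_apply] at h5
      exact h5.symm
    have hf : (ofSp M').p.IsHomLift (𝟙 (Over.mk t)) (eqToHom he) :=
      (WNAModuli.overId_eqToHom he).lift hbA
    have h6 : (ofSp M).p.IsHomLift (𝟙 (Over.mk t) ≫ 𝟙 (Over.mk t)) ((ofSpMap g).map (eqToHom he) ≫ B.obj.iso.hom) := by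
      have := BasedFunctor.preserves_isHomLift (ofSpMap g) (𝟙 (Over.mk t)) (eqToHom he)
      have : (ofSp M).p.IsHomLift (𝟙 (Over.mk t)) B.obj.iso.hom := by
        rw [← hB]
        exact B.property
      infer_instance
    have h7 : (ofSp M).p.IsHomLift (𝟙 (Over.mk t) ≫ 𝟙 (Over.mk t)) (A.obj.iso.hom ≫ π.map i.hom.1) := by
      have := BasedFunctor.preserves_isHomLift π (𝟙 (Over.mk t)) i.hom.1
      have : (ofSp M).p.IsHomLift (𝟙 (Over.mk t)) A.obj.iso.hom := by
        rw [← hA]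
        exact A.property
      infer_instance
    rw [Category.comp_id] at h6 h7
    let φ : A ⟶ B := fpHom (eqToHom he) i.hom.1 (L09.Fib.setoid_ext (ofSp_isFibSetoid _) (𝟙 (Over.mk t)))
    have : (FibCat.fp (ofSpMap g) π).p.IsHomLift (𝟙 (Over.mk t)) φ := by
      refine IsHomLift.of_fac' _ _ _ hA hB ?_
      exact @IsHomLift.fac' _ _ _ _ (ofSp M').p _ _ _ _ (𝟙 (Over.mk t)) (eqToHom he) hf
    exact L09.Gerbe.fiber_iso (L09.Fib.fp_isFibGrpd (ofSp_isFibGrpd M') hg (ofSp_isFibGrpd M))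
      ⟨A, hA⟩ ⟨B, hB⟩ φ

end Groth.L24.CoarseQuot
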