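import Groth.Agent.L24.CoarseQuot.Data
import Groth.Agent.L24.CoarseQuot.BaseChange
import Groth.Agent.L24.Moduli.WNAProps

/-!
# The map to the quotient is bijective on geometric points and a universal homeomorphism
-/

set_option autoImplicit false
set_option linter.style.haveILetI false
set_option backward.isDefEq.respectTransparency false
set_option backward.isDefEq.respectTransparency.types false

universe u

open CategoryTheory CategoryTheory.Limits AlgebraicGeometry Opposite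

noncomputable section

namespace Groth.L24.CoarseQuot.Data

open Groth.L24.Multi Groth.L24.St AlgSt

variable {S : Scheme.{u}} {𝒳 : AlgSt.Cat S} {U : Over S} {x : FibCat.overCat U ⥤ᵇ 𝒳}
  {hg : FibCat.IsFibGrpd 𝒳.p} {P : ChartGrpd.Rep x hg} (D : Data P)
  (hc : ∀ A : 𝒳.obj, ChartDesc.chartable x A ∈ AlgSp.J S (𝒳.p.obj A))

theorem s1878 (K : Piece P D.q) :
    (Function.Surjective K.G.toQuot ∧ ∀ u₀ u₁ : K.G.U, K.G.toQuot u₀ = K.G.toQuot u₁ ↔
        ∃ r : K.G.R, K.G.t r = u₀ ∧ K.G.s r = u₁) ∧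
      ∀ (k : Type u) [Field k] [IsAlgClosed k],
        (∀ m : Spec (CommRingCat.of k) ⟶ Spec (CommRingCat.of K.G.invariants),
          ∃ y : Spec (CommRingCat.of k) ⟶ K.G.U, y ≫ K.G.toQuot = m) ∧
        ∀ x₀ x₁ : Spec (CommRingCat.of k) ⟶ K.G.U, x₀ ≫ K.G.toQuot = x₁ ≫ K.G.toQuot ↔
          ∃ r : Spec (CommRingCat.of k) ⟶ K.G.R, r ≫ K.G.t = x₀ ∧ r ≫ K.G.s = x₁ := by
  have := K.isAffine_R
  obtain ⟨_, _, _⟩ := Groth.Agent.L24.Quot.isFinite_t K.G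
  exact Groth.Agent.S1878.result S K.G

variable {k : Type u} [Field k] [IsAlgClosed k] {s : Spec (CommRingCat.of k) ⟶ S}

omit [IsAlgClosed k] in
theorem exists_piece (y : Over.mk s ⟶ D.Y) :
    ∃ (K : Piece P D.q) (_ : IsOpenImmersion K.ι) (y' : Spec (CommRingCat.of k) ⟶ Spec (CommRingCat.of K.G.invariants)),
      y' ≫ K.ι = y.left := by
  obtain ⟨K, hK, hy⟩ := D.pieces (y.left (IsLocalRing.closedPoint k))
  refine ⟨K, hK, IsOpenImmersion.lift K.ι y.left ?_, IsOpenImmersion.lift_fac _ _ _⟩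
  rintro _ ⟨z, rfl⟩
  rwa [Subsingleton.elim z (IsLocalRing.closedPoint k)]

/-- Geometric points lift to the chart. -/
theorem exists_lift (y : Over.mk s ⟶ D.Y) : ∃ u : Over.mk s ⟶ U, u ≫ D.q = y := by
  obtain ⟨K, hK, y', hy'⟩ := D.exists_piece y
  obtain ⟨z, hz⟩ := ((D.s1878 K).2 k).1 y'
  have h : (z ≫ K.j) ≫ D.q.left = y.left := by
    rw [Category.assoc, ← K.sq.w, reassoc_of% hz, hy']
  refine ⟨Over.homMk (z ≫ K.j) ?_, Over.OverMorphism.ext h⟩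
  rw [← Over.w D.q, ← Category.assoc, h, Over.w y]

/-- Geometric points with the same image are joined by an arrow. -/
theorem exists_arrow {u₁ u₂ : Over.mk s ⟶ U} (h : u₁ ≫ D.q = u₂ ≫ D.q) :
    ∃ ar : Ar x (Over.mk s), ar.v = u₁ ∧ ar.w = u₂ := by
  obtain ⟨K, hK, y', hy'⟩ := D.exists_piece (u₁ ≫ D.q)
  have h₂ : y' ≫ K.ι = u₂.left ≫ D.q.left := hy'.trans (congrArg (fun m => m.left) h)
  let z₁ := K.sq.lift y' u₁.left hy'
  let z₂ := K.sq.lift y' u₂.left h₂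
  obtain ⟨r, hrt, hrs⟩ := (((D.s1878 K).2 k).2 z₂ z₁).1
    ((K.sq.lift_fst _ _ _).trans (K.sq.lift_fst _ _ _).symm)
  have hs : (r ≫ K.jR) ≫ P.src.left = u₁.left := by
    rw [Category.assoc, K.src, reassoc_of% hrs]
    exact K.sq.lift_snd _ _ _
  have ht : (r ≫ K.jR) ≫ P.tgt.left = u₂.left := by
    rw [Category.assoc, K.tgt, reassoc_of% hrt]
    exact K.sq.lift_snd _ _ _
  let r' : Over.mk s ⟶ P.R := Over.homMk (r ≫ K.jR) (by
    rw [← Over.w P.src, ← Category.assoc, hs, Over.w u₁])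
  exact ⟨P.η _ r', (P.η_v r').trans (Over.OverMorphism.ext hs), (P.η_w r').trans (Over.OverMorphism.ext ht)⟩

/-- Objects over a geometric point with the same image are isomorphic. -/
theorem exists_hom_of_fibSec_eq (hchart : ∀ A : 𝒳.obj, ∃ (V : Over S) (q : V ⟶ 𝒳.p.obj A), Flat q.left ∧
      LocallyOfFinitePresentation q.left ∧ Surjective q.left ∧ ∃ (u : V ⟶ U) (φ : ob x u ⟶ A), 𝒳.p.IsHomLift q φ)
    {a₁ a₂ : 𝒳.obj} (h₁ : 𝒳.p.obj a₁ = Over.mk s) (h₂ : 𝒳.p.obj a₂ = Over.mk s)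
    (e : fibSec (D.proj hc) ⟨a₁, h₁⟩ = fibSec (D.proj hc) ⟨a₂, h₂⟩) :
    ∃ α : a₁ ⟶ a₂, 𝒳.p.IsHomLift (𝟙 (Over.mk s)) α := by
  obtain ⟨u₁, φ₁, hφ₁⟩ := WNAModuli.exists_chart_over hchart s h₁
  obtain ⟨u₂, φ₂, hφ₂⟩ := WNAModuli.exists_chart_over hchart s h₂
  have e₁ := ChartDesc.fibSec_lift (D.proj hc) (ChartDesc.w_ob u₁) h₁ (𝟙 (Over.mk s)) φ₁
  have e₂ := ChartDesc.fibSec_lift (D.proj hc) (ChartDesc.w_ob u₂) h₂ (𝟙 (Over.mk s)) φ₂
  rw [op_id, Functor.map_id_apply, proj_ob] at e₁ e₂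
  have e₄ : u₁ ≫ D.q = u₂ ≫ D.q := congrArg ULift.down (e₁.symm.trans (e.trans e₂))
  obtain ⟨⟨v, w, χ, hχ⟩, hv, hw⟩ := D.exists_arrow e₄
  dsimp only at hv hw
  subst hv hw
  have := L09.Fib.isIso_of_isFibGrpd _ hg (𝟙 (Over.mk s)) φ₁
  have : 𝒳.p.IsHomLift (𝟙 (Over.mk s)) (CategoryTheory.inv φ₁) := IsHomLift.lift_id_inv_isIso 𝒳.p (Over.mk s) φ₁
  have hα : 𝒳.p.IsHomLift (𝟙 (Over.mk s) ≫ 𝟙 _ ≫ 𝟙 _) (CategoryTheory.inv φ₁ ≫ χ ≫ φ₂) := inferInstance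
  rw [Category.comp_id, Category.comp_id] at hα
  exact ⟨CategoryTheory.inv φ₁ ≫ χ ≫ φ₂, hα⟩

theorem geomPtBij (hchart : ∀ A : 𝒳.obj, ∃ (V : Over S) (q : V ⟶ 𝒳.p.obj A), Flat q.left ∧
      LocallyOfFinitePresentation q.left ∧ Surjective q.left ∧ ∃ (u : V ⟶ U) (φ : ob x u ⟶ A), 𝒳.p.IsHomLift q φ) :
    GeomPtBij (D.proj hc) := by
  intro Ω _ _ t
  refine ⟨fun ⟨m⟩ => ?_, fun a b e => ?_⟩
  · obtain ⟨u, rfl⟩ := D.exists_lift m
    exact ⟨⟨ob x u, ChartDesc.w_ob u⟩, D.proj_ob hc u⟩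
  · obtain ⟨α, hα⟩ := D.exists_hom_of_fibSec_eq hc hchart a.2 b.2 e
    exact L09.Gerbe.fiber_iso hg a b α

theorem comp_proj : BasedFunctor.comp x (D.proj hc) =
    BasedFunctor.comp (ofOverCat U) (ofSpMap ((AlgSp.yon S).map D.q)) := by
  refine Groth.L24.QuotMor.basedFunctor_ext fun o => ?_
  obtain ⟨T, u, rfl⟩ : ∃ (T : Over S) (u : T ⟶ U), o = Over.mk u := ⟨o.left, o.hom, rfl⟩
  refine (D.proj_ob hc u).trans ?_
  show _ = ((AlgSp.yon S).obj D.Y).obj.map (eqToHom rfl).op _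
  simp
  rfl

theorem repWith_comp_proj {Q : MorphismProperty (AlgSp.Sp S)} (hB : PBase Q)
    (hQ : Q ((AlgSp.yon S).map D.q)) : RepByAlgSpWith Q (BasedFunctor.comp x (D.proj hc)) := by
  rw [comp_proj]
  exact (repWith_precomp (ofOverCat_isEquivOver U) _).2
    (repWith_ofSpMap_of_prop hB (AlgSp.IsAlgSpace.yon_obj U) (AlgSp.IsAlgSpace.yon_obj D.Y) _ hQ)

theorem isAlgStack_space : IsAlgStack Scheme.fppfPrecoverage (ofSch D.Y) :=
  isAlgStack_of_repByAlgSp ⟨⟨_, AlgSp.IsAlgSpace.yon_obj D.Y⟩, _, isEquivOver_id _⟩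

theorem univHomeo (h𝒳 : IsAlgStack Scheme.fppfPrecoverage 𝒳) (hxs : RepByAlgSpWith AlgSp.IsSurjectiveMor x)
    (hchart : ∀ A : 𝒳.obj, ∃ (V : Over S) (q : V ⟶ 𝒳.p.obj A), Flat q.left ∧
      LocallyOfFinitePresentation q.left ∧ Surjective q.left ∧ ∃ (u : V ⟶ U) (φ : ob x u ⟶ A), 𝒳.p.IsHomLift q φ) :
    IsUnivHomeo Scheme.fppfPrecoverage (D.proj hc) := by
  have hM := D.isAlgStack_space
  have := D.isIntegral
  have := D.surjective
  have hdiag : AlgSt.IsSurjective (FibCat.diag (D.proj hc)) := by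
    refine isSurjective_diag_of_forall h𝒳 hM _ fun k _ _ s a₁ a₂ h₁ h₂ β hβ => ?_
    have e := L09.Gerbe.sec_eq β (((D.proj hc).w_obj a₁).trans h₁) (((D.proj hc).w_obj a₂).trans h₂) hβ
    obtain ⟨α, hα⟩ := D.exists_hom_of_fibSec_eq hc hchart h₁ h₂ e
    refine ⟨α, hα, ?_⟩
    have := BasedFunctor.preserves_isHomLift (D.proj hc) (𝟙 (Over.mk s)) α
    exact L09.Fib.setoid_ext (ofSp_isFibSetoid _) (𝟙 (Over.mk s))
  intro 𝒵 h𝒵 g
  have hfpX := isAlgStack_fp h𝒵 h𝒳 hM g (D.proj hc)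
  let m := fpMap (F := g) (G := D.proj hc) (F' := g) (G' := BasedFunctor.comp x (D.proj hc))
    (BasedFunctor.id 𝒵) x (Iso.refl _) (Iso.refl _)
  have hm : AlgSt.IsSurjective m := WNAModuli.isSurjective_fp_comp h𝒵 h𝒳 hM g
    (isSurjective_of_repWith (overCat_isFibGrpd U) h𝒳.isStack.1 hxs)
  have hcomp : ∀ p, Points.map (FibCat.fpFst g (D.proj hc)) (Points.map m p) =
      Points.map (FibCat.fpFst g (BasedFunctor.comp x (D.proj hc))) p := fun p => by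
    rw [← map_comp_apply]
    rfl
  have hclosed : IsClosedMap (Points.map (FibCat.fpFst g (BasedFunctor.comp x (D.proj hc)))) :=
    isUnivX_of_repWith (T := fun {A B} [TopologicalSpace A] [TopologicalSpace B] t => IsClosedMap t)
      (fun hk hsq _ ht => hsq.isClosedMap (hk.isClosedMap.comp ht)) (overCat_isFibGrpd U) hM.isStack.1
      (D.repWith_comp_proj hc pBase_univClosed (WNAModuli.isUnivClosedMor_map D.q)) 𝒵 h𝒵 g
  have hsurj : AlgSt.IsSurjective (BasedFunctor.comp x (D.proj hc)) :=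
    isSurjective_of_repWith (overCat_isFibGrpd U) hM.isStack.1
      (D.repWith_comp_proj hc WNAModuli.pBase_surjective
        (Groth.L23.surjective_map_of_repWith ((AlgSp.repWith_yon_map_iff _ _).2 ‹Surjective D.q.left›)))
  rw [isHomeomorph_iff_continuous_isClosedMap_bijective]
  refine ⟨continuous_fpFst h𝒵 g _, fun A hA => ?_, injective_fpFst_of_diag h𝒳.isStack.1 hM.isStack.1 h𝒵.isStack.1 hdiag g, ?_⟩
  · have : Points.map (FibCat.fpFst g (D.proj hc)) '' A =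
        Points.map (FibCat.fpFst g (BasedFunctor.comp x (D.proj hc))) '' (Points.map m ⁻¹' A) := by
      ext z
      constructor
      · rintro ⟨a, ha, rfl⟩
        obtain ⟨p, rfl⟩ := hm a
        exact ⟨p, ha, (hcomp p).symm⟩
      · rintro ⟨p, hp, rfl⟩
        exact ⟨_, hp, hcomp p⟩
    rw [this]
    exact hclosed _ (hA.preimage (continuous_map hfpX m))
  · intro z
    obtain ⟨p, hp⟩ := isSurjective_fpFst (overCat_isFibGrpd U) hM.isStack.1 h𝒵.isStack.1 g hsurj z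
    exact ⟨Points.map m p, (hcomp p).trans hp⟩

end Groth.L24.CoarseQuot.Data
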