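import Groth.Agent.L24.CoarseQuot.LocQuot
import Groth.Agent.L24.Quot.Glue

/-!
# The quotient of the groupoid of a finite locally free chart
-/

set_option autoImplicit false
set_option linter.style.haveILetI false
set_option backward.isDefEq.respectTransparency false
set_option backward.isDefEq.respectTransparency.types false

universe u

open CategoryTheory CategoryTheory.Limits AlgebraicGeometry Opposite AlgSp

noncomputable section

namespace Groth.L24.CoarseQuot

open Groth.L24.Multi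
open Groth.Agent.L24.Quot (Rel InvAff quotMap quotObj restrict exists_quotient sW_ι tW_ι restrict_s_prop)

variable {S : Scheme.{u}} {𝒳 : AlgSt.Cat S} {U : Over S} {x : FibCat.overCat U ⥤ᵇ 𝒳}
  {hg : FibCat.IsFibGrpd 𝒳.p}

/-- The quotient of the chart by its groupoid, covered by affine pieces. -/
structure Data (P : ChartGrpd.Rep x hg) where
  Y : Over S
  q : U ⟶ Y
  inv : P.src ≫ q = P.tgt ≫ q
  isIntegral : IsIntegralHom q.left
  surjective : Surjective q.left
  rel : ∀ a b : U.left, q.left a = q.left b ↔ ∃ r : P.R.left, P.src.left r = a ∧ P.tgt.left r = b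
  pieces : ∀ y : Y.left, ∃ K : Piece P q, IsOpenImmersion K.ι ∧ y ∈ Set.range K.ι

/-- The quotient exists when orbits are in affine opens. -/
theorem exists_data (P : ChartGrpd.Rep x hg) [IsFinite P.src.left] [Flat P.src.left]
    [LocallyOfFinitePresentation P.src.left]
    (hG : ∀ a : U.left, ∃ V : U.left.Opens, IsAffineOpen V ∧ ∀ b, Rel P.grpd a b → b ∈ V) :
    Nonempty (Data P) := by
  haveI : IsFinite P.grpd.s := ‹IsFinite P.src.left›
  haveI : Flat P.grpd.s := ‹Flat P.src.left›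
  haveI : LocallyOfFinitePresentation P.grpd.s := ‹LocallyOfFinitePresentation P.src.left›
  obtain ⟨Y, p, w, ⟨hcol⟩, hint, hsurj, -, hrel, -, -, hpc⟩ := exists_quotient (G := P.grpd) hG
  have hpU : P.grpd.t ≫ U.hom = P.grpd.s ≫ U.hom := (Over.w P.tgt).trans (Over.w P.src).symm
  let σ : Y ⟶ S := hcol.desc (Cofork.ofπ U.hom hpU)
  have hσ : p ≫ σ = U.hom := hcol.fac (Cofork.ofπ U.hom hpU) WalkingParallelPair.one
  let q : U ⟶ Over.mk σ := Over.homMk p hσ
  refine ⟨⟨Over.mk σ, q, Over.OverMorphism.ext w.symm, hint, hsurj, hrel, fun y => ?_⟩⟩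
  obtain ⟨W, ι, hι, hy, sq⟩ := hpc y
  exact ⟨{ G := restrict P.grpd W.1 W.2.2
           affine := W.2.1
           finite := restrict_s_prop P.grpd W.1 W.2.2 @IsFinite ‹_›
           flat := restrict_s_prop P.grpd W.1 W.2.2 @Flat ‹_›
           lfp := restrict_s_prop P.grpd W.1 W.2.2 @LocallyOfFinitePresentation ‹_›
           j := W.1.ι
           jR := (P.grpd.s ⁻¹ᵁ W.1).ι
           src := (sW_ι P.grpd W.1).symm
           tgt := (tW_ι P.grpd W.1 W.2.2).symm
           ι := ι
           sq := sq }, hι, hy⟩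

namespace Data

variable {P : ChartGrpd.Rep x hg} (D : Data P)

theorem inv_q : ChartDesc.Inv x ((yon S).map D.q) := fun T s => by
  show (ULift.up (s.v ≫ D.q) : ((yon S).obj D.Y).obj.obj (op T)) = ULift.up (s.w ≫ D.q)
  rw [← P.symm_v, ← P.symm_w, Category.assoc, Category.assoc, D.inv]

variable (hc : ∀ A : 𝒳.obj, ChartDesc.chartable x A ∈ AlgSp.J S (𝒳.p.obj A))

/-- The map to the quotient. -/
def proj : 𝒳 ⥤ᵇ AlgSt.ofSch D.Y := ChartDesc.desc hg hc D.inv_q

theorem proj_ob {T : Over S} (u : T ⟶ U) :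
    AlgSt.fibSec (D.proj hc) ⟨ob x u, ChartDesc.w_ob u⟩ = ⟨u ≫ D.q⟩ :=
  ChartDesc.pt_desc hg hc D.inv_q u

open FlatLocal

variable {D hc}

/-- The universal property on a small affine flat scheme. -/
theorem existsUnique_small {Y' : Over S} {a : Y' ⟶ D.Y} {N : Sp S} (hN : IsAlgSpace N)
    (Φ : FibCat.fp (AlgSt.ofSpMap ((yon S).map a)) (D.proj hc) ⥤ᵇ AlgSt.ofSp N)
    {B : Over S} [IsAffine B.left] (r : B ⟶ Y') [Flat (r ≫ a).left] (K : Piece P D.q) [IsOpenImmersion K.ι]
    (hB : Set.range (r ≫ a).left ⊆ Set.range K.ι) :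
    ∃! h : (yon S).obj B ⟶ N, Cond Φ ((yon S).map r) h := by
  have key : ∀ (g : (yon S).obj B ⟶ (yon S).obj D.Y), g = (yon S).map (r ≫ a) →
      ∀ Ψ : FibCat.fp (AlgSt.ofSpMap g) (D.proj hc) ⥤ᵇ AlgSt.ofSp N,
      ∃! h : (yon S).obj B ⟶ N,
        Nonempty (BasedFunctor.comp (FibCat.fpFst (AlgSt.ofSpMap g) (D.proj hc)) (AlgSt.ofSpMap h) ≅ Ψ) := by
    rintro g rfl Ψ
    simpa only [WNAModuli.cond_id_iff] using K.existsUnique_cond_affine hc (D.proj_ob hc) (r ≫ a) hB hN Ψ
  simpa only [cond_iff] using key _ ((yon S).map_comp r a).symm (restr (Φ := Φ) ((yon S).map r))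

theorem cond_unique {Y' : Over S} {a : Y' ⟶ D.Y} {N : Sp S} (hN : IsAlgSpace N)
    {Φ : FibCat.fp (AlgSt.ofSpMap ((yon S).map a)) (D.proj hc) ⥤ᵇ AlgSt.ofSp N}
    {V : Over S} (r : V ⟶ Y') [Flat (r ≫ a).left] (K : Piece P D.q) [IsOpenImmersion K.ι]
    (hV : Set.range (r ≫ a).left ⊆ Set.range K.ι) {h h' : (yon S).obj V ⟶ N}
    (hh : Cond Φ ((yon S).map r) h) (hh' : Cond Φ ((yon S).map r) h') : h = h' := by
  refine Groth.L23.hom_ext_cover (fun B : V.left.affineOpens => Groth.L23.openOverι V B.1)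
    (affine_cover V) fun B => ?_
  let k := Groth.L23.openOverι V B.1
  have : IsAffine (Groth.L23.openOver V B.1).left := B.2
  have : Flat ((k ≫ r) ≫ a).left := by
    rw [Category.assoc]
    exact inferInstanceAs (Flat (k.left ≫ (r ≫ a).left))
  have hB : Set.range ((k ≫ r) ≫ a).left ⊆ Set.range K.ι := by
    rw [Category.assoc]
    exact (Set.range_comp_subset_range k.left (r ≫ a).left).trans hV
  have e : (yon S).map k ≫ (yon S).map r = (yon S).map (k ≫ r) := ((yon S).map_comp k r).symm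
  exact (existsUnique_small hN Φ (k ≫ r) K hB).unique (e ▸ cond_comp hh _) (e ▸ cond_comp hh' _)

variable (D hc)

theorem affHyp : FlatLocal.AffHyp (D.proj hc) := by
  intro Y' hY' a ha
  obtain ⟨a, rfl⟩ := (yon S).map_surjective a
  have : Flat a.left := (Groth.L24.LocQ.locP_map_iff Groth.L23.etLocal_flat a).1 ha
  refine ⟨IsAlgSpace.yon_obj Y', fun N hN Φ => ?_⟩
  suffices ∃! h : (yon S).obj Y' ⟶ N, Cond Φ (𝟙 _) h by simpa only [WNAModuli.cond_id_iff] using this
  let I := {B : Y'.left.affineOpens // ∃ K : Piece P D.q, IsOpenImmersion K.ι ∧ a.left '' B.1 ⊆ Set.range K.ι}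
  let j := fun B : I => Groth.L23.openOverι Y' B.1.1
  have hs : ∀ t : Y'.left, ∃ (B : I) (v : _), (j B).left v = t := by
    intro t
    obtain ⟨K, hK, ht⟩ := D.pieces (a.left t)
    obtain ⟨B, hB, htB, hle⟩ := exists_isAffineOpen_mem_and_subset (x := t)
      (U := a.left ⁻¹ᵁ K.ι.opensRange) ht
    exact ⟨⟨⟨B, hB⟩, K, hK, Set.image_subset_iff.2 hle⟩, ⟨t, htB⟩, rfl⟩
  have hrange : ∀ (B : I) {K : Piece P D.q}, a.left '' B.1.1 ⊆ Set.range K.ι →
      Set.range (j B ≫ a).left ⊆ Set.range K.ι := by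
    rintro B K hK _ ⟨t, rfl⟩
    exact hK ⟨t.1, t.2, rfl⟩
  have hflat : ∀ B : I, Flat (j B ≫ a).left := fun B => inferInstanceAs (Flat (B.1.1.ι ≫ a.left))
  have hex : ∀ B : I, ∃! h : (yon S).obj _ ⟶ N, Cond Φ ((yon S).map (j B)) h := fun B => by
    obtain ⟨K, hK, hB⟩ := B.2
    have := hflat B
    have : IsAffine (Groth.L23.openOver Y' B.1.1).left := B.1.2
    exact existsUnique_small hN Φ (j B) K (hrange B hB)
  choose h hh hu using hex
  obtain ⟨l, hl, hlu⟩ := Groth.L23.existsUnique_glue j hs h fun W B C b c w => by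
    rw [← pullback.lift_fst (f := j B) (g := j C) b c w]
    conv_rhs => rw [← pullback.lift_snd (f := j B) (g := j C) b c w]
    simp only [Functor.map_comp, Category.assoc]
    congr 1
    obtain ⟨K, hK, hB⟩ := B.2
    let p₁ := pullback.fst (j B) (j C)
    have : IsOpenImmersion p₁.left :=
      MorphismProperty.of_isPullback (P := @IsOpenImmersion)
        ((IsPullback.of_hasPullback (j B) (j C)).map (Over.forget S)).flip
        (inferInstanceAs (IsOpenImmersion (C.1.1.ι)))
    have := hflat B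
    have : Flat ((p₁ ≫ j B) ≫ a).left := by
      rw [Category.assoc]
      exact inferInstanceAs (Flat (p₁.left ≫ (j B ≫ a).left))
    refine cond_unique (hc := hc) (Φ := Φ) hN (p₁ ≫ j B) K ?_ ?_ ?_
    · rw [Category.assoc]
      exact (Set.range_comp_subset_range p₁.left (j B ≫ a).left).trans (hrange B hB)
    · rw [Functor.map_comp]
      exact cond_comp (hh B) _
    · rw [pullback.condition, Functor.map_comp]
      exact cond_comp (hh C) _
  refine ⟨l, cond_of_cover j hg hs fun B => ?_, fun l' hl' => hlu l' fun B => hu B _ ?_⟩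
  · rw [hl B, Category.comp_id]
    exact hh B
  · have := cond_comp hl' ((yon S).map (j B))
    rwa [Category.comp_id] at this

/-- The quotient is a uniform categorical moduli space. -/
theorem isUnifCatModuli : AlgSt.IsUnifCatModuli (D.proj hc) := by
  have hM := IsAlgSpace.yon_obj D.Y
  have h : ∀ {M' : Sp S}, IsAlgSpace M' → ∀ {g : M' ⟶ (yon S).obj D.Y}, LocP @Flat g →
      AlgSt.IsCatModuli (FibCat.fpFst (AlgSt.ofSpMap g) (D.proj hc)) := fun hM' _ hg' =>
    FlatLocal.isCatModuli_fpFst hg hM hM' hg' (D.affHyp hc)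
  refine ⟨FlatLocal.isCatModuli_of_id (h hM (Groth.L23.locP_of_repWith Groth.L23.etLocal_flat
    (Groth.L23.repWith_mono (fun φ hφ => Groth.L23.etLocal_flat.etale φ hφ) (repWith_id @Etale D.Y)))),
    fun M' hM' g hg' => h hM' hg'⟩

end Data

end Groth.L24.CoarseQuot
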