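import Groth.Agent.L24.Moduli.WNAModuli

/-!
# The universal property over an affine piece of a quotient
-/

set_option autoImplicit false
set_option linter.style.haveILetI false
set_option backward.isDefEq.respectTransparency false
set_option backward.isDefEq.respectTransparency.types false

universe u

open CategoryTheory CategoryTheory.Limits AlgebraicGeometry Opposite AlgSp TensorProduct

noncomputable section

namespace Groth.L24.CoarseQuot

open Groth.L24.Multi Groth.L24.AffQuot Groth.L24.WNAModuli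
open Groth.Agent.L24.Quot (algR algD sAlg tAlg exists_dat isFinite_t)

attribute [local instance] algR algD Algebra.TensorProduct.rightAlgebra

variable {S : Scheme.{u}} {𝒳 : AlgSt.Cat S} {U : Over S} {x : FibCat.overCat U ⥤ᵇ 𝒳}
  {hg : FibCat.IsFibGrpd 𝒳.p} (P : ChartGrpd.Rep x hg) {M : Over S} (q : U ⟶ M)

/-- An affine invariant piece of the chart over the affine piece of the quotient given by its invariants. -/
structure Piece where
  G : Grpd.GroupoidScheme S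
  affine : IsAffine G.U
  finite : IsFinite G.s
  flat : Flat G.s
  lfp : LocallyOfFinitePresentation G.s
  j : G.U ⟶ U.left
  jR : G.R ⟶ P.R.left
  src : jR ≫ P.src.left = G.s ≫ j
  tgt : jR ≫ P.tgt.left = G.t ≫ j
  ι : Spec (CommRingCat.of G.invariants) ⟶ M.left
  sq : IsPullback G.toQuot j ι q.left

namespace Piece

variable {P q} (K : Piece P q) (C' : Type u) [CommRing C'] [Algebra K.G.invariants C']

instance : IsAffine K.G.U := K.affine
instance : IsFinite K.G.s := K.finite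
instance : Flat K.G.s := K.flat
instance : LocallyOfFinitePresentation K.G.s := K.lfp

theorem isAffine_R : IsAffine K.G.R := isAffine_of_isAffineHom K.G.s

/-- The base of an affine base change. -/
abbrev base' : Spec (CommRingCat.of C') ⟶ S :=
  Spec.map (CommRingCat.ofHom (algebraMap K.G.invariants C')) ≫ K.ι ≫ M.hom

theorem toQuot_base : K.G.toQuot ≫ K.ι ≫ M.hom = K.j ≫ U.hom := by
  rw [← Category.assoc, K.sq.w, Category.assoc, Over.w q]

theorem hU_toQuot : K.G.U.isoSpec.inv ≫ K.G.toQuot =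
    Spec.map (CommRingCat.ofHom (algebraMap K.G.invariants Γ(K.G.U, ⊤))) := by
  show K.G.U.isoSpec.inv ≫ K.G.U.toSpecΓ ≫ Spec.map (CommRingCat.ofHom K.G.invariants.subtype) = _
  rw [← Scheme.isoSpec_hom, Iso.inv_hom_id_assoc]
  rfl

/-- The base change of the piece. -/
def chart' : ov (K.base' C') (Γ(K.G.U, ⊤) ⊗[K.G.invariants] C') ⟶ U :=
  Over.homMk ((Spec.map (CommRingCat.ofHom (Algebra.TensorProduct.includeLeft :
    Γ(K.G.U, ⊤) →ₐ[K.G.invariants] Γ(K.G.U, ⊤) ⊗[K.G.invariants] C').toRingHom) ≫ K.G.U.isoSpec.inv) ≫ K.j) (by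
    show (_ ≫ K.j) ≫ U.hom = Spec.map (CommRingCat.ofHom (algebraMap C' (Γ(K.G.U, ⊤) ⊗[K.G.invariants] C'))) ≫
      Spec.map (CommRingCat.ofHom (algebraMap K.G.invariants C')) ≫ K.ι ≫ M.hom
    rw [Category.assoc, ← K.toQuot_base, Category.assoc, reassoc_of% K.hU_toQuot, ← Spec.map_comp_assoc,
      ← Spec.map_comp_assoc, ← CommRingCat.ofHom_comp, ← CommRingCat.ofHom_comp, htens])

theorem exists_arrows : ∃ ar : Ar x (ov (K.base' C') (Γ(K.G.R, ⊤) ⊗[K.G.invariants] C')),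
    ar.v = ovMap (K.base' C') (mapId C' (sAlg K.G)) ≫ K.chart' C' ∧
      ar.w = ovMap (K.base' C') (mapId C' (tAlg K.G)) ≫ K.chart' C' := by
  have := K.isAffine_R
  let r₀ : Spec (CommRingCat.of (Γ(K.G.R, ⊤) ⊗[K.G.invariants] C')) ⟶ K.G.R :=
    Spec.map (CommRingCat.ofHom (Algebra.TensorProduct.includeLeft :
      Γ(K.G.R, ⊤) →ₐ[K.G.invariants] Γ(K.G.R, ⊤) ⊗[K.G.invariants] C').toRingHom) ≫
        K.G.R.isoSpec.inv
  have key : ∀ (p : K.G.R ⟶ K.G.U) (f : Γ(K.G.U, ⊤) →ₐ[K.G.invariants] Γ(K.G.R, ⊤)),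
      p.appTop.hom = f.toRingHom → (r₀ ≫ p) ≫ K.j = (ovMap (K.base' C') (mapId C' f)).left ≫ (K.chart' C').left := by
    intro p f hf
    show _ = Spec.map _ ≫ (Spec.map _ ≫ K.G.U.isoSpec.inv) ≫ K.j
    rw [← Category.assoc (Spec.map _) (Spec.map _ ≫ K.G.U.isoSpec.inv)]
    congr 1
    show (Spec.map _ ≫ K.G.R.isoSpec.inv) ≫ p = Spec.map _ ≫ Spec.map _ ≫ K.G.U.isoSpec.inv
    rw [Category.assoc, ← Scheme.isoSpec_inv_naturality, ← Spec.map_comp_assoc, ← Spec.map_comp_assoc]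
    congr 2
    apply CommRingCat.hom_ext
    refine RingHom.ext fun z => ?_
    show (p.appTop.hom z) ⊗ₜ[K.G.invariants] (1 : C') =
      Algebra.TensorProduct.map f (AlgHom.id K.G.invariants C') (z ⊗ₜ[K.G.invariants] (1 : C'))
    rw [hf]
    simp
  have hs : (r₀ ≫ K.jR) ≫ P.src.left = (ovMap (K.base' C') (mapId C' (sAlg K.G))).left ≫ (K.chart' C').left := by
    rw [Category.assoc, K.src, ← Category.assoc]
    exact key K.G.s (sAlg K.G) rfl
  have ht : (r₀ ≫ K.jR) ≫ P.tgt.left = (ovMap (K.base' C') (mapId C' (tAlg K.G))).left ≫ (K.chart' C').left := by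
    rw [Category.assoc, K.tgt, ← Category.assoc]
    exact key K.G.t (tAlg K.G) rfl
  have hr₁' : (r₀ ≫ K.jR) ≫ P.R.hom = Spec.map (CommRingCat.ofHom (algebraMap C' _)) ≫ K.base' C' := by
    rw [← Over.w P.src, ← Category.assoc, hs, Category.assoc, Over.w (K.chart' C')]
    exact Over.w (ovMap (K.base' C') (mapId C' (sAlg K.G)))
  let r₁ : ov (K.base' C') (Γ(K.G.R, ⊤) ⊗[K.G.invariants] C') ⟶ P.R := Over.homMk (r₀ ≫ K.jR) hr₁'
  exact ⟨P.η _ r₁, (P.η_v r₁).trans (Over.OverMorphism.ext hs), (P.η_w r₁).trans (Over.OverMorphism.ext ht)⟩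

variable {C'} {Y' : Over S} (a₀ : Y' ⟶ M) (e : ov (K.base' C') C' ≅ Y')
  (he : e.hom.left ≫ a₀.left = Spec.map (CommRingCat.ofHom (algebraMap K.G.invariants C')) ≫ K.ι)
include he

theorem chart'_compat :
    (ovMap (K.base' C') (Algebra.ofId C' (Γ(K.G.U, ⊤) ⊗[K.G.invariants] C')) ≫ e.hom) ≫ a₀ =
      K.chart' C' ≫ q := by
  apply Over.OverMorphism.ext
  show (Spec.map (CommRingCat.ofHom (algebraMap C' _)) ≫ e.hom.left) ≫ a₀.left =
    ((Spec.map _ ≫ K.G.U.isoSpec.inv) ≫ K.j) ≫ q.left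
  rw [Category.assoc, he, Category.assoc, Category.assoc, ← K.sq.w, reassoc_of% K.hU_toQuot,
    ← Spec.map_comp_assoc, ← Spec.map_comp_assoc, ← CommRingCat.ofHom_comp, ← CommRingCat.ofHom_comp, htens]

theorem chart'_lift {W : Over S} (u : W ⟶ U) (kk : W ⟶ ov (K.base' C') C')
    (h : (kk ≫ e.hom) ≫ a₀ = u ≫ q) :
    ∃ i : W ⟶ ov (K.base' C') (Γ(K.G.U, ⊤) ⊗[K.G.invariants] C'), i ≫ K.chart' C' = u ∧
      i ≫ ovMap (K.base' C') (Algebra.ofId C' (Γ(K.G.U, ⊤) ⊗[K.G.invariants] C')) = kk := by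
  have hk : (kk.left ≫ Spec.map (CommRingCat.ofHom (algebraMap K.G.invariants C'))) ≫ K.ι = u.left ≫ q.left := by
    rw [Category.assoc, ← he, ← Category.assoc]
    exact congrArg (fun m => m.left) h
  let l : W.left ⟶ K.G.U := K.sq.lift _ u.left hk
  have hl₁ : l ≫ K.G.toQuot = kk.left ≫ Spec.map (CommRingCat.ofHom (algebraMap K.G.invariants C')) :=
    K.sq.lift_fst _ _ _
  have hl₂ : l ≫ K.j = u.left := K.sq.lift_snd _ _ _
  have sq := isPullback_SpecMap_of_isPushout _ _ _ _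
    (CommRingCat.isPushout_tensorProduct K.G.invariants Γ(K.G.U, ⊤) C')
  have hw : (l ≫ K.G.U.isoSpec.hom) ≫ Spec.map (CommRingCat.ofHom (algebraMap K.G.invariants Γ(K.G.U, ⊤))) =
      kk.left ≫ Spec.map (CommRingCat.ofHom (algebraMap K.G.invariants C')) := by
    rw [← K.hU_toQuot, Category.assoc, Iso.hom_inv_id_assoc, hl₁]
  have hi : sq.lift (l ≫ K.G.U.isoSpec.hom) kk.left hw ≫ (K.chart' C').left = u.left := by
    refine (Category.assoc _ _ _).symm.trans ((congrArg (· ≫ K.j) ?_).trans hl₂)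
    refine (Category.assoc _ _ _).symm.trans ?_
    exact (congrArg (· ≫ K.G.U.isoSpec.inv) (sq.lift_fst _ _ _)).trans
      ((Category.assoc _ _ _).trans (by rw [Iso.hom_inv_id]; exact Category.comp_id _))
  let i : W ⟶ ov (K.base' C') (Γ(K.G.U, ⊤) ⊗[K.G.invariants] C') :=
    Over.homMk (sq.lift (l ≫ K.G.U.isoSpec.hom) kk.left hw) (by
      rw [← Over.w (K.chart' C'), ← Category.assoc, hi]
      exact Over.w u)
  exact ⟨i, Over.OverMorphism.ext hi, Over.OverMorphism.ext (sq.lift_snd _ _ _)⟩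

open FlatLocal in
theorem existsUnique_cond [Module.Flat K.G.invariants C']
    (hc : ∀ A : 𝒳.obj, ChartDesc.chartable x A ∈ AlgSp.J S (𝒳.p.obj A))
    {π : 𝒳 ⥤ᵇ AlgSt.ofSch M}
    (hπ : ∀ {T : Over S} (u : T ⟶ U), AlgSt.fibSec π ⟨ob x u, ChartDesc.w_ob u⟩ = ⟨u ≫ q⟩)
    {N : Sp S} (hN : IsAlgSpace N) (Φ : FibCat.fp (AlgSt.ofSpMap ((yon S).map a₀)) π ⥤ᵇ AlgSt.ofSp N) :
    ∃! h : (yon S).obj Y' ⟶ N, Cond Φ (𝟙 _) h := by
  have := K.isAffine_R
  obtain ⟨d, hds, hdt, hfull⟩ := exists_dat K.G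
  have : Algebra.IsIntegral K.G.invariants Γ(K.G.U, ⊤) := d.isIntegral (d.lifts_of_full hfull)
  have := isIntegral_tensor_right (C := K.G.invariants) Γ(K.G.U, ⊤) C'
  obtain ⟨ar, hv, hw⟩ := K.exists_arrows C'
  have hfin : (tAlg K.G : Γ(K.G.U, ⊤) →+* Γ(K.G.R, ⊤)).Finite := by
    obtain ⟨_, _, _⟩ := isFinite_t K.G
    exact K.G.t.finite_appTop
  have h1 : ((mapId C' (tAlg K.G)).toRingHom).Finite :=
    finite_map (C := K.G.invariants) (A := Γ(K.G.U, ⊤)) (B := Γ(K.G.R, ⊤)) (C' := C') (f := tAlg K.G) hfin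
  have h2 : ∀ (L : Type u) [Field L] [IsAlgClosed L] [Algebra C' L]
      (z₀ z₁ : Γ(K.G.U, ⊤) ⊗[K.G.invariants] C' →ₐ[C'] L),
      ∃ r : Γ(K.G.R, ⊤) ⊗[K.G.invariants] C' →ₐ[C'] L,
        r.comp (mapId C' (tAlg K.G)) = z₀ ∧ r.comp (mapId C' (sAlg K.G)) = z₁ :=
    fun L _ _ _ z₀ z₁ => harr_bc (fun L' _ _ _ y₀ y₁ => by
      obtain ⟨r, e₀, e₁⟩ := d.exists_arrow hfull L' y₀ y₁
      rw [hdt] at e₀
      rw [hds] at e₁
      exact ⟨r, e₀, e₁⟩) L z₀ z₁
  have h3 : Function.Injective (algebraMap C' (Γ(K.G.U, ⊤) ⊗[K.G.invariants] C')) :=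
    includeRight_injective (A := Γ(K.G.U, ⊤)) Subtype.val_injective C'
  have h4 : ∀ z : Γ(K.G.U, ⊤) ⊗[K.G.invariants] C', mapId C' (sAlg K.G) z = mapId C' (tAlg K.G) z →
      ∃ c : C', algebraMap C' (Γ(K.G.U, ⊤) ⊗[K.G.invariants] C') c = z :=
    fun z hz => mem_range_of_eq (s := sAlg K.G) (t := tAlg K.G) (fun b hb => ⟨⟨b, hb⟩, rfl⟩) C' z hz
  refine existsUnique_cond_of_alg (B' := Γ(K.G.R, ⊤) ⊗[K.G.invariants] C')
    (A' := Γ(K.G.U, ⊤) ⊗[K.G.invariants] C') hc hπ (K.base' C') e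
    (s' := mapId C' (sAlg K.G)) (t' := mapId C' (tAlg K.G)) h1 h2 h3 h4
    (K.chart' C') ?_ ?_ ar hv hw hN Φ
  · exact K.chart'_compat a₀ e he
  · exact fun u kk h => K.chart'_lift a₀ e he u kk h

omit he in
open FlatLocal in
/-- The universal property for flat affine schemes mapping into the piece. -/
theorem existsUnique_cond_affine (hc : ∀ A : 𝒳.obj, ChartDesc.chartable x A ∈ AlgSp.J S (𝒳.p.obj A))
    {π : 𝒳 ⥤ᵇ AlgSt.ofSch M}
    (hπ : ∀ {T : Over S} (u : T ⟶ U), AlgSt.fibSec π ⟨ob x u, ChartDesc.w_ob u⟩ = ⟨u ≫ q⟩)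
    [IsOpenImmersion K.ι] {Y' : Over S} [IsAffine Y'.left] (a : Y' ⟶ M) [Flat a.left]
    (ha : Set.range a.left ⊆ Set.range K.ι)
    {N : Sp S} (hN : IsAlgSpace N) (Φ : FibCat.fp (AlgSt.ofSpMap ((yon S).map a)) π ⥤ᵇ AlgSt.ofSp N) :
    ∃! h : (yon S).obj Y' ⟶ N, Cond Φ (𝟙 _) h := by
  let b : Y'.left ⟶ Spec (CommRingCat.of K.G.invariants) := IsOpenImmersion.lift K.ι a.left ha
  have hb : b ≫ K.ι = a.left := IsOpenImmersion.lift_fac _ _ _
  have : Flat (b ≫ K.ι) := by rw [hb]; infer_instance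
  have : Flat b := by
    have h : b = pullback.lift b (𝟙 Y'.left) (by rw [hb, Category.id_comp]) ≫ pullback.fst K.ι a.left := by
      rw [pullback.lift_fst]
    have : IsIso (pullback.snd K.ι a.left) := by
      refine (isIso_iff_isOpenImmersion_and_surjective _).2 ⟨inferInstance, ⟨fun y => ?_⟩⟩
      obtain ⟨z, hz⟩ := ha ⟨y, rfl⟩
      obtain ⟨w, -, hw⟩ := Scheme.Pullback.exists_preimage_pullback (f := K.ι) (g := a.left) z y hz
      exact ⟨w, hw⟩
    have : IsIso (pullback.lift b (𝟙 Y'.left) (by rw [hb, Category.id_comp]) : Y'.left ⟶ pullback K.ι a.left) := by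
      have h2 : (pullback.lift b (𝟙 Y'.left) (by rw [hb, Category.id_comp]) : Y'.left ⟶ pullback K.ι a.left) ≫
          pullback.snd K.ι a.left = 𝟙 _ := pullback.lift_snd _ _ _
      exact IsIso.of_isIso_fac_right h2
    have : Flat (pullback.fst K.ι a.left) := MorphismProperty.pullback_fst _ _ inferInstance
    rw [h]
    infer_instance
  let φ : CommRingCat.of K.G.invariants ⟶ Γ(Y'.left, ⊤) := Spec.preimage (Y'.left.isoSpec.inv ≫ b)
  have hφ : Spec.map φ = Y'.left.isoSpec.inv ≫ b := Spec.map_preimage _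
  letI : Algebra K.G.invariants Γ(Y'.left, ⊤) := φ.hom.toAlgebra
  have hf : φ.hom.Flat := by
    rw [← HasRingHomProperty.Spec_iff (P := @Flat), hφ]
    infer_instance
  haveI : Module.Flat K.G.invariants Γ(Y'.left, ⊤) := hf
  let e : ov (K.base' Γ(Y'.left, ⊤)) Γ(Y'.left, ⊤) ≅ Y' :=
    Over.isoMk Y'.left.isoSpec.symm (by
      show Y'.left.isoSpec.inv ≫ Y'.hom = Spec.map (CommRingCat.ofHom (algebraMap Γ(Y'.left, ⊤) Γ(Y'.left, ⊤))) ≫
        Spec.map φ ≫ K.ι ≫ M.hom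
      rw [Algebra.algebraMap_self, CommRingCat.ofHom_id, Spec.map_id, Category.id_comp, hφ, Category.assoc,
        reassoc_of% hb, Over.w a])
  exact K.existsUnique_cond a e (by
    show Y'.left.isoSpec.inv ≫ a.left = Spec.map φ ≫ K.ι
    rw [hφ, Category.assoc, hb]) hc hπ hN Φ

end Piece

end Groth.L24.CoarseQuot
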