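import Groth.Prelude.Def_RedSub
import Groth.Agent.L18.VeryAmpleOver
import Groth.Agent.L18.AmpleAvoid
import Groth.Agent.L18.AmpleOps
import Groth.Agent.L24.Quot.Glue

/-!
# Finite fibres of a locally quasi-projective scheme lie in affine opens
-/

set_option autoImplicit false
set_option linter.style.haveILetI false
set_option backward.isDefEq.respectTransparency false
set_option backward.isDefEq.respectTransparency.types false

universe u

open CategoryTheory CategoryTheory.Limits AlgebraicGeometry TopologicalSpace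

noncomputable section

namespace Groth.L24.CoarseQuot

/-- A finite set of points of projective space over a base, inside an open and over an affine open of the base,
lies in an affine open inside the open. -/
theorem exists_affine_projSpace (n : ℕ) {B : Scheme.{u}} {V : B.Opens} (hV : IsAffineOpen V)
    (O : (CohB1.ProjSpaceOver n B).Opens) (E : Set (CohB1.ProjSpaceOver n B)) (hE : E.Finite) (hEO : E ⊆ O)
    (hEV : ∀ e ∈ E, CohB1.ProjSpaceOver.toBase n B e ∈ V) :
    ∃ W : (CohB1.ProjSpaceOver n B).Opens, IsAffineOpen W ∧ E ⊆ W ∧ W ≤ O := by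
  let P' := CohB1.ProjSpaceOver.toBase n B ⁻¹ᵁ V
  have hL := (Groth.L18.VeryAmpleOver.isRelAmple_twistOver n B).2 ⟨V, hV⟩
  let j := P'.ι
  obtain ⟨m, s, hEs, hsO, haff⟩ := Groth.L18.Ample.exists_pow_genLocus_of_isAmple hL (j ⁻¹' E)
    (hE.preimage j.isOpenEmbedding.injective.injOn) (j ⁻¹ᵁ O) (fun z hz => hEO hz)
  refine ⟨j ''ᵁ CohB1.genLocus _ s, haff.image_of_isOpenImmersion j, fun e he => ?_, ?_⟩
  · exact ⟨⟨e, hEV e he⟩, hEs (show (⟨e, hEV e he⟩ : P'.toScheme) ∈ j ⁻¹' E from he), rfl⟩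
  · rintro _ ⟨z, hz, rfl⟩
    exact hsO hz

/-- A finite set in one fibre of a locally quasi-projective scheme lies in an affine open. -/
theorem exists_affine_of_fibre {S : Scheme.{u}} {U : Over S} (hU : RedSub.IsLocallyQuasiProjective U)
    (E : Set U.left) (hE : E.Finite) (s : S) (hs : ∀ e ∈ E, U.hom e = s) :
    ∃ W : U.left.Opens, IsAffineOpen W ∧ E ⊆ W := by
  obtain ⟨V, hsV, n, e, he, heV⟩ := hU s
  let fst : (Red.bc V.ι U).left ⟶ U.left := pullback.fst U.hom V.ι
  have : IsOpenImmersion fst := inferInstanceAs (IsOpenImmersion (pullback.fst U.hom V.ι))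
  obtain ⟨_, ⟨V₁, hV₁, rfl⟩, hsV₁, -⟩ := V.toScheme.isBasis_affineOpens.exists_subset_of_mem_open
    (Set.mem_univ ⟨s, hsV⟩) isOpen_univ
  have hsub : E ⊆ Set.range fst := fun x hx => by
    obtain ⟨z, hz, -⟩ := Scheme.Pullback.exists_preimage_pullback (f := U.hom) (g := V.ι) x ⟨s, hsV⟩
      ((hs x hx).trans rfl)
    exact ⟨z, hz⟩
  let E' : Set (CohB1.ProjSpaceOver n V.toScheme) := e '' (fst ⁻¹' E)
  have hbase : ∀ z ∈ fst ⁻¹' E, CohB1.ProjSpaceOver.toBase n V.toScheme (e z) ∈ V₁ := fun z hz => by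
    rw [← Scheme.Hom.comp_apply, heV]
    have h1 : V.ι ((Red.bc V.ι U).hom z) = s := by
      rw [← hs _ hz, ← Scheme.Hom.comp_apply, ← Scheme.Hom.comp_apply]
      exact congrArg (fun m : (Red.bc V.ι U).left ⟶ S => m z) pullback.condition.symm
    have h2 : (Red.bc V.ι U).hom z = ⟨s, hsV⟩ := V.ι.isOpenEmbedding.injective h1
    rw [h2]
    exact hsV₁
  obtain ⟨W, hW, hEW, hWO⟩ := exists_affine_projSpace n hV₁ e.coborderRange E'
    ((hE.preimage fst.isOpenEmbedding.injective.injOn).image _)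
    (by rintro _ ⟨z, -, rfl⟩; exact subset_coborder (Set.mem_range_self z))
    (by rintro _ ⟨z, hz, rfl⟩; exact hbase z hz)
  have hW' : IsAffineOpen (e ⁻¹ᵁ W) := by
    have h1 : IsAffineOpen (e.coborderRange.ι ⁻¹ᵁ W) :=
      hW.preimage_of_isOpenImmersion e.coborderRange.ι (by rwa [Scheme.Opens.opensRange_ι])
    rw [← e.liftCoborder_ι, Scheme.Hom.comp_preimage]
    exact h1.preimage e.liftCoborder
  refine ⟨fst ''ᵁ (e ⁻¹ᵁ W), hW'.image_of_isOpenImmersion fst, fun x hx => ?_⟩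
  obtain ⟨z, rfl⟩ := hsub hx
  exact ⟨z, hEW ⟨z, hx, rfl⟩, rfl⟩

open Groth.Agent.L24.Quot in
/-- Orbits of a finite groupoid on a locally quasi-projective scheme lie in affine opens. -/
theorem exists_affine_orbit {S : Scheme.{u}} (G : Grpd.GroupoidScheme S) [IsFinite G.s]
    (hU : RedSub.IsLocallyQuasiProjective (Over.mk G.pU)) (x : G.U) :
    ∃ W : G.U.Opens, IsAffineOpen W ∧ ∀ y, Rel G x y → y ∈ W := by
  obtain ⟨W, hW, hEW⟩ := exists_affine_of_fibre hU (G.t '' (G.s ⁻¹' {x}))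
    ((G.s.finite_preimage_singleton x).image _) (G.pU x) (by
      rintro _ ⟨r, hr, rfl⟩
      show G.pU (G.t r) = G.pU x
      have hr' : G.s r = x := hr
      rw [← hr', ← Scheme.Hom.comp_apply, ← Scheme.Hom.comp_apply, G.t_over, G.s_over])
  exact ⟨W, hW, fun y ⟨r, hr, hry⟩ => hEW ⟨r, hr, hry⟩⟩

end Groth.L24.CoarseQuot
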