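import Groth.Agent.L24.CoarseQuot.Props
import Groth.Agent.L24.St.AffineDiag

/-!
# Separation properties of the quotient
-/

set_option autoImplicit false
set_option linter.style.haveILetI false
set_option backward.isDefEq.respectTransparency false
set_option backward.isDefEq.respectTransparency.types false

universe u

open CategoryTheory CategoryTheory.Limits AlgebraicGeometry Opposite AlgSt

noncomputable section

namespace Groth.L24.CoarseQuot

open Groth.L24.Multi Groth.L24.St

variable {S : Scheme.{u}} {𝒳 : AlgSt.Cat S}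

/-- The diagonal of a morphism is finite if it is so after composing with a finite flat chart. -/
theorem diag_finite_of_chart {𝒴 : AlgSt.Cat S} (h1 : FibCat.IsFibGrpd 𝒳.p) (hS : FibCat.IsFibGrpd 𝒴.p)
    {t : 𝒳 ⥤ᵇ 𝒴} (hd : RepByAlgSp1 (FibCat.diag t)) {X : Over S} {x : FibCat.overCat X ⥤ᵇ 𝒳}
    (hX : RepByAlgSpWith (AlgSp.RepWith @IsFinite).diagonal (BasedFunctor.comp x t))
    (hx₁ : RepByAlgSpWith (AlgSp.LocP @Flat) x)
    (hx₂ : RepByAlgSpWith (AlgSp.LocP @LocallyOfFinitePresentation) x)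
    (hx₃ : RepByAlgSpWith AlgSp.IsSurjectiveMor x) (hx : RepByAlgSpWith AlgSp.IsFiniteMor x) :
    RepByAlgSpWith AlgSp.IsFiniteMor (FibCat.diag t) := by
  have hW := overCat_isFibGrpd X
  have hz : ∀ {Q : MorphismProperty Scheme.{u}}, Groth.L23.EtLocal Q →
      RepByAlgSpWith (AlgSp.LocP Q) x → RepByAlgSpWith (AlgSp.LocP Q) (cmpMap x x t) := fun hQ h =>
    (repWith_congr (cmpMapIso x x t)).1 (fpMap_repWith hasAtlasCovers_atlasCov
      (pBase_locP hQ) (pComp_locP hQ) (isLocalOnBase_locP hQ) hW h1 hW hS h h)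
  have hzf := hz Groth.L23.etLocal_flat hx₁
  have hzs : RepByAlgSpWith AlgSp.IsSurjectiveMor (cmpMap x x t) :=
    (repWith_congr (cmpMapIso x x t)).1 (repWith_surjective_of_isSurjective (L09.Fib.fp_isFibGrpd hW hW hS)
      (L09.Fib.fp_isFibGrpd h1 h1 hS) (repWith_rep1 ((repWith_congr (cmpMapIso x x t)).2 hzf))
      (isSurjective_legs h1 hW h1 hW hS x x _ _ (isSurjective_of_repWith hW h1 hx₃)
        (isSurjective_of_repWith hW h1 hx₃)))
  refine repWith_of_fpFst_cover hasAtlasCovers_fppf pBase_finite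
    isLocalOnBase_fppf_finite (fun _ _ _ h => h) h1 (L09.Fib.fp_isFibGrpd h1 h1 hS)
    (L09.Fib.fp_isFibGrpd hW hW hS) hd hzf (hz Groth.L23.etLocal_lfp hx₂) hzs ?_
  have h2 : RepByAlgSpWith AlgSp.IsFiniteMor (fpPost x x t) := by
    refine repWith_of_comp_of pBase_finite
      (Q := (AlgSp.RepWith @IsFinite).diagonal) (fun A B C _ _ _ a b hb hab => ?_)
      (b := FibCat.fpFst (BasedFunctor.comp x t) (BasedFunctor.comp x t))
      (repWith_fpFst _ hX) ?_
    · have : MorphismProperty.HasOfPostcompProperty (AlgSp.RepWith (S := S) @IsFinite)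
          (AlgSp.RepWith (S := S) @IsFinite).diagonal :=
        MorphismProperty.hasOfPostcompProperty_iff_le_diagonal.2 le_rfl
      exact Groth.L23.isFiniteMor_iff.2 (MorphismProperty.of_postcomp _
        (W' := (AlgSp.RepWith (S := S) @IsFinite).diagonal) a b hb (Groth.L23.isFiniteMor_iff.1 hab))
    · exact repWith_fpFst x hx
  rw [← cmpLift_fst x x t] at h2
  exact (repWith_precomp (cmpLift_isEquivOver x x t) _).1 h2

theorem toSelf_comp {𝒴 : AlgSt.Cat S} (φ : 𝒳 ⥤ᵇ 𝒴) :
    BasedFunctor.comp φ (FibCat.toSelf 𝒴) = FibCat.toSelf 𝒳 := by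
  have ext' : ∀ {Φ Ψ : 𝒳 ⥤ᵇ FibCat.selfOver (Over S)}, Φ.toFunctor = Ψ.toFunctor → Φ = Ψ := by
    rintro ⟨F, _⟩ ⟨G, _⟩ rfl
    rfl
  exact ext' φ.w

/-- A geometric point landing in the range of a preimmersion factors through it. -/
theorem exists_lift_of_mem_range {X Y : Scheme.{u}} (i : X ⟶ Y) [IsPreimmersion i] {K : Type u} [Field K]
    (z : Spec (CommRingCat.of K) ⟶ Y) (h : z (IsLocalRing.closedPoint K) ∈ Set.range i) :
    ∃ w : Spec (CommRingCat.of K) ⟶ X, w ≫ i = z := by
  obtain ⟨y, hy⟩ := h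

  obtain ⟨p, hp, -⟩ := Scheme.Pullback.exists_preimage_pullback (f := i) (g := z) y (IsLocalRing.closedPoint K) hy
  have hs : Surjective (pullback.snd i z) := ⟨fun c => ⟨p, Subsingleton.elim _ _⟩⟩
  have : IsClosedImmersion (pullback.snd i z) := by
    refine IsClosedImmersion.of_isPreimmersion _ ?_
    rw [Set.range_eq_univ.2 (pullback.snd i z).surjective]
    exact isClosed_univ
  have : IsIso (pullback.snd i z) := isIso_of_isClosedImmersion_of_surjective _
  refine ⟨inv (pullback.snd i z) ≫ pullback.fst i z, ?_⟩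
  rw [Category.assoc, pullback.condition, IsIso.inv_hom_id_assoc]

namespace Data

variable {U : Over S} {x : FibCat.overCat U ⥤ᵇ 𝒳}
  {hg : FibCat.IsFibGrpd 𝒳.p} {P : ChartGrpd.Rep x hg} (D : Data P)
  (hc : ∀ A : 𝒳.obj, ChartDesc.chartable x A ∈ AlgSp.J S (𝒳.p.obj A))

theorem rep1_diag (h𝒳 : IsAlgStack Scheme.fppfPrecoverage 𝒳) : RepByAlgSp1 (FibCat.diag (D.proj hc)) := by
  refine (rep1_iff _).2 (diag_of_comp_repWith_of pBase_top (Q := ⊤) (fun _ _ _ _ _ _ _ _ _ _ => trivial)
    (g := FibCat.toSelf (ofSch D.Y)) ((rep1_iff _).1 D.isAlgStack_space.diag) ?_)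
  rw [toSelf_comp]
  exact (rep1_iff _).1 h𝒳.diag

theorem separated (h𝒳 : IsAlgStack Scheme.fppfPrecoverage 𝒳) (hfin : RepByAlgSpWith AlgSp.IsFiniteMor x)
    (hfl : RepByAlgSpWith (AlgSp.LocP @Flat) x)
    (hlfp : RepByAlgSpWith (AlgSp.LocP @LocallyOfFinitePresentation) x)
    (hxs : RepByAlgSpWith AlgSp.IsSurjectiveMor x) : IsSeparatedMor (D.proj hc) := by
  have := D.isIntegral
  have hX : RepByAlgSpWith (AlgSp.RepWith @IsFinite).diagonal (BasedFunctor.comp x (D.proj hc)) :=
    D.repWith_comp_proj hc pBase_of_stable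
      (diagonal_repWith_map D.q (inferInstance : IsFinite (pullback.diagonal D.q.left)))
  refine repWith_mono (fun F V hF a ha => ?_)
    (diag_finite_of_chart h𝒳.isStack.1 D.isAlgStack_space.isStack.1 (D.rep1_diag hc h𝒳) hX hfl hlfp hxs hfin)
  exact Groth.L23.isProperMor_of_repWith (Groth.L23.repWith_mono (Q := (@IsProper : MorphismProperty Scheme.{u}))
    (fun φ (hφ : IsFinite φ) => have := hφ; inferInstance) (Groth.L23.isFiniteMor_iff.1 ha))

include hc in
theorem left_q_eq {T : Over S} {a b : (FibCat.overCat U).obj} (ha : a.left = T) (hb : b.left = T)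
    (φ : x.obj a ⟶ x.obj b) (hφ : 𝒳.p.IsHomLift (𝟙 T) φ) :
    (eqToHom ha.symm ≫ a.hom) ≫ D.q = (eqToHom hb.symm ≫ b.hom) ≫ D.q := by
  obtain ⟨T₁, v, rfl⟩ : ∃ (T : Over S) (u : T ⟶ U), a = Over.mk u := ⟨a.left, a.hom, rfl⟩
  obtain ⟨T₂, w, rfl⟩ : ∃ (T : Over S) (u : T ⟶ U), b = Over.mk u := ⟨b.left, b.hom, rfl⟩
  change T₁ = T at ha
  change T₂ = T at hb
  subst ha hb
  have e := L09.Gerbe.fibSec_iso (D.proj hc) ⟨ob x v, ChartDesc.w_ob v⟩ ⟨ob x w, ChartDesc.w_ob w⟩ φ hφ
  rw [proj_ob, proj_ob] at e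
  simpa using congrArg ULift.down e

include hc in
/-- The quotient of a separated stack is separated. -/
theorem isSeparated_space
    (hsep : AlgSt.IsSeparatedOver 𝒳) : IsSeparated D.Y.hom := by
  have hS : FibCat.IsFibGrpd (FibCat.selfOver (Over S)).p := (L09.Fib.isFibSet_id _).1
  have hW := overCat_isFibGrpd U
  let t := FibCat.toSelf 𝒳
  have h2 : RepByAlgSpWith AlgSp.IsProperMor (fpPost x x t) := by
    rw [← cmpLift_fst x x t]
    exact (repWith_precomp (cmpLift_isEquivOver x x t) _).2 (repWith_fpFst (cmpMap x x t) hsep)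
  let T₀ : Over S := Over.mk (pullback.fst U.hom U.hom ≫ U.hom)
  let p₁ : T₀ ⟶ U := Over.homMk (pullback.fst U.hom U.hom) rfl
  let p₂ : T₀ ⟶ U := Over.homMk (pullback.snd U.hom U.hom) pullback.condition.symm
  let y : FibCat.overCat T₀ ⥤ᵇ FibCat.fp (BasedFunctor.comp x t) (BasedFunctor.comp x t) :=
    FibCat.fpLift (overMap p₁) (overMap p₂) (eqToIso (by
      rw [toSelf_comp x, toSelf_comp, toSelf_comp]))
  have hcl : IsClosedMap (Points.map (FibCat.fpFst y (fpPost x x t))) :=
    isUnivX_of_repWith (T := fun {A B} [TopologicalSpace A] [TopologicalSpace B] t => IsClosedMap t)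
      (fun hk hsq _ ht => hsq.isClosedMap (hk.isClosedMap.comp ht)) (L09.Fib.fp_isFibGrpd hW hW hg)
      (L09.Fib.fp_isFibGrpd hW hW hS) (repWith_mono (fun _ _ _ _ h => h.2.2) h2) _ (isAlgStack_overCat T₀) y
  let Z : Set T₀.left :=
    Points.ofChart (BasedFunctor.id (FibCat.overCat T₀)) ⁻¹' Set.range (Points.map (FibCat.fpFst y (fpPost x x t)))
  have hZ : IsClosed Z :=
    hcl.isClosed_range.preimage (continuous_ofChart (isAlgStack_overCat T₀) _)
  let q2 : pullback U.hom U.hom ⟶ pullback D.Y.hom D.Y.hom :=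
    pullback.map U.hom U.hom D.Y.hom D.Y.hom D.q.left D.q.left (𝟙 S) (by simp) (by simp)
  have := D.isIntegral
  have := D.surjective
  have hu : UniversallyClosed D.q.left := inferInstance
  have hq2 : UniversallyClosed q2 :=
    MorphismProperty.pullbackMap (P := @UniversallyClosed) hu hu (Over.w D.q).symm (Over.w D.q).symm
  have hq2s : Surjective q2 :=
    MorphismProperty.pullbackMap (P := @Surjective) ‹_› ‹_› (Over.w D.q).symm (Over.w D.q).symm
  have hmem : ∀ z : T₀.left, z ∈ Z ↔ q2 z ∈ Set.range (pullback.diagonal D.Y.hom) := by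
    intro z
    constructor
    · rintro ⟨p, hp⟩
      obtain ⟨p, rfl⟩ := Points.mk_surjective p
      let o := p.obj
      let k : Over.mk p.str ⟶ T₀ := eqToHom p.lies.symm ≫ o.obj.fst.hom
      have hk : k.left (IsLocalRing.closedPoint p.K) = z := by
        have := congrArg overPt hp
        rw [Points.map_mk] at this
        exact this.trans (overPt_ptOver z)
      have hl : (FibCat.fp (BasedFunctor.comp x t) (BasedFunctor.comp x t)).p.IsHomLift
          (𝟙 (Over.mk p.str)) o.obj.iso.hom := by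
        rw [← p.lies]
        exact o.property
      have hF : (o.obj.snd.obj.fst).left = Over.mk p.str :=
        (FibCat.fpFst x x).w_obj o.obj.snd |>.trans (((FibCat.fpSnd y (fpPost x x t)).w_obj o).trans p.lies)
      have hG : (o.obj.snd.obj.snd).left = Over.mk p.str :=
        (FibCat.fpSnd x x).w_obj o.obj.snd |>.trans (((FibCat.fpSnd y (fpPost x x t)).w_obj o).trans p.lies)
      have h₁ : (o.obj.iso.hom.hom.fst).left = eqToHom ((p.lies.trans hF.symm) : o.obj.fst.left = _) := by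
        have := @IsHomLift.fac' _ _ _ _ (FibCat.fp (BasedFunctor.comp x t) (BasedFunctor.comp x t)).p _ _ _ _
          (𝟙 (Over.mk p.str)) o.obj.iso.hom hl
        simp at this
        exact this
      have h₂ : (o.obj.iso.hom.hom.snd).left = eqToHom ((p.lies.trans hG.symm) : o.obj.fst.left = _) := by
        have hl' : (FibCat.overCat U).p.IsHomLift (𝟙 (Over.mk p.str)) o.obj.iso.hom.hom.snd :=
          @BasedFunctor.preserves_isHomLift _ _ _ _ (FibCat.fpSnd (BasedFunctor.comp x t) (BasedFunctor.comp x t))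
            _ _ _ _ (𝟙 (Over.mk p.str)) o.obj.iso.hom hl
        have := @IsHomLift.fac' _ _ _ _ (FibCat.overCat U).p _ _ _ _ (𝟙 (Over.mk p.str)) o.obj.iso.hom.hom.snd hl'
        simp at this
        exact this
      have w₁ := Over.w o.obj.iso.hom.hom.fst
      have w₂ := Over.w o.obj.iso.hom.hom.snd
      rw [h₁] at w₁
      rw [h₂] at w₂
      have hφ : 𝒳.p.IsHomLift (𝟙 (Over.mk p.str)) o.obj.snd.obj.iso.hom := by
        rw [← ((FibCat.fpSnd y (fpPost x x t)).w_obj o).trans p.lies]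
        exact o.obj.snd.property
      have e := D.left_q_eq hc hF hG o.obj.snd.obj.iso.hom hφ
      have e₁ : k ≫ p₁ = eqToHom hF.symm ≫ o.obj.snd.obj.fst.hom := by
        have w₁' : eqToHom (p.lies.trans hF.symm) ≫ o.obj.snd.obj.fst.hom = o.obj.fst.hom ≫ p₁ := w₁
        exact (Category.assoc _ _ _).trans ((congrArg (eqToHom p.lies.symm ≫ ·) w₁'.symm).trans
          (eqToHom_trans_assoc _ _ _))
      have e₂ : k ≫ p₂ = eqToHom hG.symm ≫ o.obj.snd.obj.snd.hom := by
        have w₂' : eqToHom (p.lies.trans hG.symm) ≫ o.obj.snd.obj.snd.hom = o.obj.fst.hom ≫ p₂ := w₂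
        exact (Category.assoc _ _ _).trans ((congrArg (eqToHom p.lies.symm ≫ ·) w₂'.symm).trans
          (eqToHom_trans_assoc _ _ _))
      rw [← e₁, ← e₂] at e
      have e' : k.left ≫ p₁.left ≫ D.q.left = k.left ≫ p₂.left ≫ D.q.left := by
        simpa using congrArg (fun m => m.left) e
      have : k.left ≫ q2 = (k.left ≫ p₁.left ≫ D.q.left) ≫ pullback.diagonal D.Y.hom := by
        apply pullback.hom_ext
        · simp [q2, p₁]
        · rw [Category.assoc, Category.assoc, Category.assoc, pullback.diagonal_snd, Category.comp_id]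
          exact (congrArg (k.left ≫ ·) (pullback.lift_snd _ _ _)).trans e'.symm
      exact ⟨(k.left ≫ p₁.left ≫ D.q.left) (IsLocalRing.closedPoint p.K), by
        rw [← Scheme.Hom.comp_apply, ← this, Scheme.Hom.comp_apply, hk]
        rfl⟩
    · intro hz
      let K := AlgebraicClosure (T₀.left.residueField z)
      let zK : Spec (CommRingCat.of K) ⟶ T₀.left :=
        Spec.map (CommRingCat.ofHom (algebraMap (T₀.left.residueField z) K)) ≫ T₀.left.fromSpecResidueField z
      have hzK : zK (IsLocalRing.closedPoint K) = z := by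
        rw [Scheme.Hom.comp_apply]
        exact Scheme.fromSpecResidueField_apply z _
      obtain ⟨w, hw⟩ := exists_lift_of_mem_range (pullback.diagonal D.Y.hom) (zK ≫ q2)
        (by rw [Scheme.Hom.comp_apply, hzK]; exact hz)
      let k : Over.mk (zK ≫ T₀.hom) ⟶ T₀ := Over.homMk zK rfl
      have e : (k ≫ p₁) ≫ D.q = (k ≫ p₂) ≫ D.q := by
        apply Over.OverMorphism.ext
        show (zK ≫ pullback.fst _ _) ≫ D.q.left = (zK ≫ pullback.snd _ _) ≫ D.q.left
        have h₁ := congrArg (· ≫ pullback.fst D.Y.hom D.Y.hom) hw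
        have h₂ := congrArg (· ≫ pullback.snd D.Y.hom D.Y.hom) hw
        simp [q2] at h₁ h₂
        exact (Category.assoc _ _ _).trans (h₁.symm.trans (h₂.trans (Category.assoc _ _ _).symm))
      obtain ⟨⟨v, v', χ, hχ⟩, hv, hv'⟩ := D.exists_arrow e
      dsimp only at hv hv'
      subst hv hv'
      have := L09.Fib.isIso_of_isFibGrpd _ hg (𝟙 (Over.mk (zK ≫ T₀.hom))) χ
      let B : (FibCat.fp x x).obj := fpObj (Over.mk (k ≫ p₁)) (Over.mk (k ≫ p₂)) (asIso χ) (overId_of_lift hχ)
      let A : (FibCat.fp (BasedFunctor.comp x t) (BasedFunctor.comp x t)).obj := y.obj (Over.mk k)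
      let C : (FibCat.fp (BasedFunctor.comp x t) (BasedFunctor.comp x t)).obj := (fpPost x x t).obj B
      have hA : OverId ((BasedFunctor.comp x t).map (𝟙 A.obj.fst) ≫ C.obj.iso.hom) :=
        ((overId_id _).map (BasedFunctor.comp x t)).comp (fp_overId C)
      have hC : OverId (A.obj.iso.hom ≫ (BasedFunctor.comp x t).map (𝟙 A.obj.snd)) :=
        (fp_overId A).comp ((overId_id _).map (BasedFunctor.comp x t))
      let i : y.obj (Over.mk k) ≅ (fpPost x x t).obj B := fpIsoMk (Iso.refl _) (Iso.refl _) (by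
        have h₁ := hA.lift (rfl : (FibCat.selfOver (Over S)).p.obj ((BasedFunctor.comp x t).obj A.obj.fst) = _)
        have h₂ := hC.lift (rfl : (FibCat.selfOver (Over S)).p.obj ((BasedFunctor.comp x t).obj A.obj.fst) = _)
        exact (@IsHomLift.fac' _ _ _ _ (FibCat.selfOver (Over S)).p _ _ _ _ _ _ h₁).trans
          (@IsHomLift.fac' _ _ _ _ (FibCat.selfOver (Over S)).p _ _ _ _ _ _ h₂).symm)
      refine ⟨Points.mk ⟨K, zK ≫ T₀.hom, fpObj (Over.mk k) B i (overId_fp _ (overId_id _)), rfl⟩, ?_⟩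
      apply (overPtEquiv T₀).injective
      exact hzK.trans (overPt_ptOver z).symm
  have hr : Set.range (pullback.diagonal D.Y.hom) = q2 '' Z := by
    ext w
    constructor
    · intro hw
      obtain ⟨z, rfl⟩ := q2.surjective w
      exact ⟨z, (hmem z).2 hw, rfl⟩
    · rintro ⟨z, hz, rfl⟩
      exact (hmem z).1 hz
  refine ⟨IsClosedImmersion.of_isPreimmersion _ ?_⟩
  rw [hr]
  exact q2.isClosedMap _ hZ

end Data

end Groth.L24.CoarseQuot
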